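import Groth.Agent.H80.BlowUpConductor
import Groth.Agent.Lib.Ideal.EffCartier
import Mathlib.AlgebraicGeometry.Morphisms.Finite
import Mathlib.RingTheory.Ideal.GoingUp

/-!
# Finite birational morphisms are blow-ups
-/

set_option autoImplicit false
universe u

open CategoryTheory CategoryTheory.Limits AlgebraicGeometry TopologicalSpace Opposite
open Groth.Agent.Lib Groth.Agent.Lib.Ideal.Comap Groth.Agent.Lib.Ideal.EffCartier

namespace Groth.Agent.Lib.BlowFlat85.FiniteBirational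

variable {X Y : Scheme.{u}}

/-- A chart where an affine morphism is the blow-up in a conductor ideal. -/
structure Good (f : X ⟶ Y) (I : Y.IdealSheafData) (U : Y.affineOpens) : Prop where
  inj : Function.Injective (f.app U.1)
  sub : (Ideal.map (f.app U.1).hom (I.ideal U) : Set Γ(X, f ⁻¹ᵁ U.1)) ⊆ f.app U.1 '' (I.ideal U : Set Γ(Y, U.1))
  gen : ∃ s ∈ nonZeroDivisors Γ(X, f ⁻¹ᵁ U.1), Ideal.map (f.app U.1).hom (I.ideal U) = Ideal.span {s}

theorem Good.existsUnique_hom {f : X ⟶ Y} [IsAffineHom f] {I : Y.IdealSheafData} {U : Y.affineOpens}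
    (hU : Good f I U) {R : Type u} [CommRing R] (φ : Γ(Y, U.1) →+* R) (t : R)
    (ht : t ∈ nonZeroDivisors R) (hmap : (I.ideal U).map φ = Ideal.span {t}) :
    ∃! ψ : Γ(X, f ⁻¹ᵁ U.1) →+* R, ψ.comp (f.app U.1).hom = φ := by
  letI : Algebra Γ(Y, U.1) Γ(X, f ⁻¹ᵁ U.1) := (f.app U.1).hom.toAlgebra
  exact H80.BlowUpConductor.existsUnique_lift (A := Γ(Y, U.1)) (B := Γ(X, f ⁻¹ᵁ U.1)) hU.inj
    (I.ideal U) hU.sub φ t ht hmap

theorem hom_ext {f : X ⟶ Y} [IsAffineHom f] {I : Y.IdealSheafData}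
    (hgood : ∀ y, ∃ U : Y.affineOpens, y ∈ U.1 ∧ Good f I U) {Z : Scheme.{u}} (g : Z ⟶ Y)
    (hg : BlowUp.IsEffCartierIdeal (I.comap g)) {h h' : Z ⟶ X} (e : h ≫ f = g) (e' : h' ≫ f = g) :
    h = h' := by
  have loc : ∀ z : Z, ∃ W : Z.affineOpens, z ∈ W.1 ∧ W.1.ι ≫ h = W.1.ι ≫ h' := by
    intro z
    obtain ⟨U, hzU, hU⟩ := hgood (g z)
    obtain ⟨W, hzW, hle, t, ht, htW⟩ := exists_gen hg z (W := g ⁻¹ᵁ U.1) hzU
    refine ⟨W, hzW, ?_⟩
    rw [ideal_comap g I U W hle] at htW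
    have key : ∀ (k : Z ⟶ X), k ≫ f = g → ∃ χ : Γ(X, f ⁻¹ᵁ U.1) ⟶ Γ(Z, W.1),
        χ.hom.comp (f.app U.1).hom = (g.appLE U.1 W.1 hle).hom ∧
          Spec.map χ ≫ (U.2.preimage f).fromSpec = W.2.fromSpec ≫ k := by
      intro k hk
      have ek : W.1 ≤ k ⁻¹ᵁ (f ⁻¹ᵁ U.1) := fun w hw => by
        change f (k w) ∈ U.1
        rw [← Scheme.Hom.comp_apply, hk]
        exact hle hw
      refine ⟨k.appLE _ _ ek, ?_, IsAffineOpen.SpecMap_appLE_fromSpec k (U.2.preimage f) W.2 ek⟩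
      rw [← CommRingCat.hom_comp, Scheme.Hom.app_eq_appLE, Scheme.Hom.appLE_comp_appLE]
      simp only [hk]
    obtain ⟨χ, hχ, hχ'⟩ := key h e
    obtain ⟨χ', hχ₁, hχ₁'⟩ := key h' e'
    have : χ = χ' := CommRingCat.hom_ext ((hU.existsUnique_hom _ t ht htW).unique hχ hχ₁)
    rw [← W.2.isoSpec_hom_fromSpec, Category.assoc, Category.assoc, ← hχ', ← hχ₁', this]
  choose W hzW hW using loc
  exact (Z.openCoverOfIsOpenCover (fun z => (W z).1) (TopologicalSpace.IsOpenCover.mk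
    (eq_top_iff.mpr fun z _ => Opens.mem_iSup.mpr ⟨z, hzW z⟩))).hom_ext _ _ fun z => hW z

theorem isBlowUp_of_good (f : X ⟶ Y) [IsAffineHom f] (I : Y.IdealSheafData)
    (hgood : ∀ y, ∃ U : Y.affineOpens, y ∈ U.1 ∧ Good f I U) : BlowUp.IsBlowUp f I := by
  refine ⟨fun x => ?_, fun Z g hg => ?_⟩
  · obtain ⟨U, hxU, hU⟩ := hgood (f x)
    obtain ⟨s, hs, hgen⟩ := hU.gen
    refine ⟨⟨f ⁻¹ᵁ U.1, U.2.preimage f⟩, hxU, s, hs, ?_⟩
    rw [ideal_comap f I U ⟨f ⁻¹ᵁ U.1, U.2.preimage f⟩ le_rfl, ← Scheme.Hom.app_eq_appLE, hgen]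
  have loc : ∀ z : Z, ∃ (W : Z.affineOpens) (k : W.1.toScheme ⟶ X),
      z ∈ W.1 ∧ k ≫ f = W.1.ι ≫ g := by
    intro z
    obtain ⟨U, hzU, hU⟩ := hgood (g z)
    obtain ⟨W, hzW, hle, t, ht, htW⟩ := exists_gen hg z (W := g ⁻¹ᵁ U.1) hzU
    rw [ideal_comap g I U W hle] at htW
    obtain ⟨ψ, hψ, -⟩ := hU.existsUnique_hom _ t ht htW
    refine ⟨W, W.2.isoSpec.hom ≫ Spec.map (CommRingCat.ofHom ψ) ≫ (U.2.preimage f).fromSpec,
      hzW, ?_⟩
    rw [Category.assoc, Category.assoc,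
      ← IsAffineOpen.SpecMap_appLE_fromSpec f U.2 (U.2.preimage f) le_rfl, ← Scheme.Hom.app_eq_appLE,
      ← Spec.map_comp_assoc]
    have : f.app U.1 ≫ CommRingCat.ofHom ψ = g.appLE U.1 W.1 hle := CommRingCat.hom_ext hψ
    rw [this, IsAffineOpen.SpecMap_appLE_fromSpec g U.2 W.2 hle]
    exact IsAffineOpen.isoSpec_hom_fromSpec_assoc _ _
  choose W k hzW hk using loc
  let 𝒰 := Z.openCoverOfIsOpenCover (fun z => (W z).1) (TopologicalSpace.IsOpenCover.mk
    (eq_top_iff.mpr fun z _ => Opens.mem_iSup.mpr ⟨z, hzW z⟩))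
  have hcompat : ∀ z z' : Z, pullback.fst (W z).1.ι (W z').1.ι ≫ k z =
      pullback.snd (W z).1.ι (W z').1.ι ≫ k z' := by
    intro z z'
    refine hom_ext hgood (pullback.fst (W z).1.ι (W z').1.ι ≫ (W z).1.ι ≫ g) ?_ ?_ ?_
    · rw [← Category.assoc, Scheme.IdealSheafData.comap_comp]
      exact isEffCartier_comap_of_flat _ hg
    · exact (Category.assoc _ _ _).trans (congrArg (pullback.fst _ _ ≫ ·) (hk z))
    · refine (Category.assoc _ _ _).trans ((congrArg (pullback.snd _ _ ≫ ·) (hk z')).trans ?_)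
      exact (pullback.condition_assoc g).symm
  have hglue : 𝒰.glueMorphisms k hcompat ≫ f = g := by
    refine 𝒰.hom_ext _ _ fun z => ?_
    rw [← Category.assoc]
    exact (congrArg (· ≫ f) (𝒰.ι_glueMorphisms _ _ z)).trans (hk z)
  exact ⟨_, hglue, fun h' hh' => hom_ext hgood g hg hh' hglue⟩

theorem isIso_eqToHom' {C : Type*} [Category C] {A B : C} (h : A = B) : IsIso (eqToHom h) := by
  subst h
  exact ⟨𝟙 A, by simp, by simp⟩

theorem isIso_app_of_le (f : X ⟶ Y) {W V : Y.Opens} [IsIso (f ∣_ W)] (h : V ≤ W) :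
    IsIso (f.app V) := by
  have hV : W.ι ''ᵁ (W.ι ⁻¹ᵁ V) = V := by
    rw [Scheme.Hom.image_preimage_eq_opensRange_inf, Scheme.Opens.opensRange_ι]
    exact inf_eq_right.mpr h
  have : IsIso ((f ∣_ W).app (W.ι ⁻¹ᵁ V)) := inferInstance
  rw [morphismRestrict_app] at this
  haveI : IsIso (f.app (W.ι ''ᵁ (W.ι ⁻¹ᵁ V))) :=
    @IsIso.of_isIso_comp_right _ _ _ _ _ _ _ (by rw [eqToHom_op, eqToHom_map]; apply isIso_eqToHom') this
  exact hV ▸ ‹IsIso (f.app (W.ι ''ᵁ (W.ι ⁻¹ᵁ V)))›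

variable (f : X ⟶ Y) (L : Y.IdealSheafData)

theorem basicOpen_eq_of_gen {U : Y.affineOpens} {t : Γ(Y, U.1)} (ht : L.ideal U = Ideal.span {t})
    {y : Y} (hy : y ∈ U.1) : y ∈ Y.basicOpen t ↔ y ∉ L.support := by
  rw [Scheme.IdealSheafData.mem_support_iff_of_mem hy, ht]
  simp [Scheme.zeroLocus_span, hy]

/-- Denominators: a chart on which a fixed power of the divisor carries `Γ(X)` into `Γ(Y)`. -/
theorem exists_pow [IsFinite f] (hiso : IsIso (f ∣_ L.support.compl)) {U : Y.affineOpens}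
    {t : Γ(Y, U.1)} (ht : t ∈ nonZeroDivisors Γ(Y, U.1)) (hL : L.ideal U = Ideal.span {t}) :
    Function.Injective (f.app U.1) ∧
      ∃ m : ℕ, ∀ b, ∃ a, f.app U.1 a = b * f.app U.1 t ^ m := by
  have hle : Y.basicOpen t ≤ L.support.compl := fun y hy =>
    (basicOpen_eq_of_gen L hL (Y.basicOpen_le t hy)).mp hy
  haveI := isIso_app_of_le f hle
  have hbij := ConcreteCategory.bijective_of_isIso (f.app (Y.basicOpen t))
  haveI := U.2.isLocalization_basicOpen t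
  have hpre : f ⁻¹ᵁ Y.basicOpen t = X.basicOpen (f.app U.1 t) := Scheme.preimage_basicOpen f t
  have hX : IsAffineOpen (f ⁻¹ᵁ U.1) := U.2.preimage f
  have hnat : ∀ a, f.app (Y.basicOpen t) (Y.presheaf.map (homOfLE (Y.basicOpen_le t)).op a) =
      X.presheaf.map (homOfLE (f.preimage_mono (Y.basicOpen_le t))).op (f.app U.1 a) := fun a => by
    exact ConcreteCategory.congr_hom (f.naturality (homOfLE (Y.basicOpen_le t)).op) a
  have hrel : ∀ x : Γ(X, f ⁻¹ᵁ U.1),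
      X.presheaf.map (homOfLE (f.preimage_mono (Y.basicOpen_le t))).op x = 0 →
        ∃ k : ℕ, f.app U.1 t ^ k * x = 0 := by
    intro x hx
    haveI := hX.isLocalization_basicOpen (f.app U.1 t)
    have : X.presheaf.map (homOfLE (X.basicOpen_le (f.app U.1 t))).op x = 0 := by
      have h2 := congrArg (X.presheaf.map (homOfLE hpre.ge).op) hx
      rw [map_zero, ← CommRingCat.comp_apply, ← Functor.map_comp] at h2
      exact h2
    obtain ⟨⟨_, k, rfl⟩, hk⟩ :=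
      (IsLocalization.map_eq_zero_iff (Submonoid.powers (f.app U.1 t)) _ x).mp this
    exact ⟨k, hk⟩
  refine ⟨(injective_iff_map_eq_zero _).mpr fun a ha => ?_, ?_⟩
  · have h0 : Y.presheaf.map (homOfLE (Y.basicOpen_le t)).op a = 0 := by
      refine hbij.1 ?_
      rw [hnat, ha, map_zero, map_zero]
    obtain ⟨⟨_, k, rfl⟩, hk⟩ :=
      (IsLocalization.map_eq_zero_iff (Submonoid.powers t) _ a).mp h0
    exact (mul_left_mem_nonZeroDivisors_eq_zero_iff (pow_mem ht k)).mp hk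
  letI : Algebra Γ(Y, U.1) Γ(X, f ⁻¹ᵁ U.1) := (f.app U.1).hom.toAlgebra
  haveI : Module.Finite Γ(Y, U.1) Γ(X, f ⁻¹ᵁ U.1) := IsFinite.finite_app f U.1 U.2
  have hb : ∀ b, ∃ (m : ℕ) (a : Γ(Y, U.1)), f.app U.1 a = b * f.app U.1 t ^ m := by
    intro b
    obtain ⟨c, hc⟩ := hbij.2 (X.presheaf.map (homOfLE (f.preimage_mono (Y.basicOpen_le t))).op b)
    obtain ⟨⟨a, ⟨_, m, rfl⟩⟩, ham⟩ := IsLocalization.surj (Submonoid.powers t) c
    have hz : X.presheaf.map (homOfLE (f.preimage_mono (Y.basicOpen_le t))).op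
        (b * f.app U.1 t ^ m - f.app U.1 a) = 0 := by
      rw [map_sub, map_mul, ← hc, ← map_pow, ← hnat, ← hnat, ← map_mul, sub_eq_zero]
      exact congrArg _ ham
    obtain ⟨k, hk⟩ := hrel _ hz
    refine ⟨k + m, t ^ k * a, ?_⟩
    rw [map_mul, map_pow]
    linear_combination (norm := ring) -hk
  obtain ⟨s, hs⟩ := (Module.Finite.fg_top : (⊤ : Submodule Γ(Y, U.1) Γ(X, f ⁻¹ᵁ U.1)).FG)
  choose m a ha using hb
  refine ⟨s.sup m, fun b => ?_⟩
  have hb : b ∈ Submodule.span Γ(Y, U.1) (s : Set Γ(X, f ⁻¹ᵁ U.1)) := hs ▸ Submodule.mem_top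
  induction hb using Submodule.span_induction with
  | mem x hx =>
    refine ⟨a x * t ^ (s.sup m - m x), ?_⟩
    rw [map_mul, ha, map_pow, mul_assoc, ← pow_add, Nat.add_sub_cancel' (Finset.le_sup hx)]
  | zero => exact ⟨0, by rw [map_zero, zero_mul]⟩
  | add x y _ _ hx hy =>
    obtain ⟨p, hp⟩ := hx
    obtain ⟨q, hq⟩ := hy
    exact ⟨p + q, by rw [map_add, hp, hq, add_mul]⟩
  | smul r x _ hx =>
    obtain ⟨p, hp⟩ := hx
    exact ⟨r * p, by rw [map_mul, hp, Algebra.smul_def, mul_assoc]; rfl⟩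

variable [IsReduced X] (hdense : Dense (f.base ⁻¹' ((L.support : Set Y)ᶜ)))

include hdense in
theorem app_mem_nonZeroDivisors {U : Y.affineOpens} {t : Γ(Y, U.1)}
    (hL : L.ideal U = Ideal.span {t}) : f.app U.1 t ∈ nonZeroDivisors Γ(X, f ⁻¹ᵁ U.1) := by
  refine mem_nonZeroDivisors_of_eq_zero fun b hb => ?_
  rw [← basicOpen_eq_bot_iff]
  by_contra hne
  obtain ⟨x, hx⟩ := Set.nonempty_iff_ne_empty.mpr fun h => hne (Opens.ext h)
  obtain ⟨x', hx', hxL⟩ := hdense.inter_open_nonempty _ (X.basicOpen b).isOpen ⟨x, hx⟩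
  have hxU : f x' ∈ U.1 := X.basicOpen_le b hx'
  have h1 : x' ∈ X.basicOpen (f.app U.1 t) := by
    rw [← Scheme.preimage_basicOpen]
    exact (basicOpen_eq_of_gen L hL hxU).mpr hxL
  have h2 : x' ∈ X.basicOpen (f.app U.1 t * b) := by
    rw [Scheme.basicOpen_mul]
    exact ⟨h1, hx'⟩
  rw [hb, Scheme.basicOpen_zero] at h2
  exact h2

include hdense in
/-- Finite birational morphisms are blow-ups. -/
theorem exists_isBlowUp [CompactSpace Y] [IsFinite f] (hL : BlowUp.IsEffCartierIdeal L)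
    (hiso : IsIso (f ∣_ L.support.compl)) :
    ∃ I : Y.IdealSheafData, I.support = L.support ∧ BlowUp.IsBlowUp f I := by
  choose U hyU t ht hLt using fun y : Y => hL y
  obtain ⟨F, hF⟩ := isCompact_univ.elim_finite_subcover (fun y : Y => ((U y).1 : Set Y))
    (fun y => (U y).1.isOpen) fun y _ => Set.mem_iUnion.mpr ⟨y, hyU y⟩
  choose m hm using fun y : Y => (exists_pow f L hiso (ht y) (hLt y)).2
  set n := F.sup m + 1 with hn
  set I := ((L ^ n).comap f).map f with hI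
  have hcov : ∀ y, ∃ j ∈ F, y ∈ (U j).1 := fun y => by simpa using hF (Set.mem_univ y)
  have hideal : ∀ j, I.ideal (U j) =
      (Ideal.span {f.app (U j).1 (t j) ^ n}).comap (f.app (U j).1).hom := by
    intro j
    rw [hI, Scheme.IdealSheafData.ideal_map_of_isAffineHom,
      ideal_comap f _ (U j) ⟨_, (U j).2.preimage f⟩ le_rfl, ← Scheme.Hom.app_eq_appLE,
      Scheme.IdealSheafData.ideal_pow, Pi.pow_apply, hLt j, Ideal.span_singleton_pow,
      Ideal.map_span, Set.image_singleton, map_pow]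
  have hmem : ∀ j, t j ^ n ∈ I.ideal (U j) := fun j => by
    rw [hideal, Ideal.mem_comap, map_pow]
    exact Ideal.mem_span_singleton_self _
  refine ⟨I, ?_, isBlowUp_of_good f I fun y => ?_⟩
  · ext y
    obtain ⟨j, -, hy⟩ := hcov y
    show y ∈ I.support ↔ y ∈ L.support
    rw [Scheme.IdealSheafData.mem_support_iff_of_mem hy, Scheme.mem_zeroLocus_iff,
      ← not_iff_not, ← basicOpen_eq_of_gen L (hLt j) hy]
    constructor
    · intro h
      simp only [not_forall, not_not] at h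
      obtain ⟨a, ha, hya⟩ := h
      rw [SetLike.mem_coe, hideal, Ideal.mem_comap] at ha
      by_contra hyt
      rw [mem_basicOpen_iff_notMem_prime (U j).2 hy] at hya hyt
      rw [not_not] at hyt
      letI : Algebra Γ(Y, (U j).1) Γ(X, f ⁻¹ᵁ (U j).1) := (f.app (U j).1).hom.toAlgebra
      haveI : Module.Finite Γ(Y, (U j).1) Γ(X, f ⁻¹ᵁ (U j).1) :=
        IsFinite.finite_app f (U j).1 (U j).2
      obtain ⟨Q, -, hQ, hQc⟩ := Ideal.exists_ideal_over_prime_of_isIntegral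
        ((U j).2.primeIdealOf ⟨y, hy⟩).asIdeal (⊥ : Ideal Γ(X, f ⁻¹ᵁ (U j).1))
        (by
          intro z hz
          rw [Ideal.mem_comap, Ideal.mem_bot] at hz
          rw [(exists_pow f L hiso (ht j) (hLt j)).1 (hz.trans (map_zero _).symm)]
          exact Ideal.zero_mem _)
      obtain ⟨c, hc⟩ := Ideal.mem_span_singleton'.mp ha
      refine hya (hQc ▸ ?_)
      change f.app (U j).1 a ∈ Q
      have ht' : f.app (U j).1 (t j) ∈ Q := by
        rw [← hQc] at hyt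
        exact hyt
      rw [← hc]
      exact Q.mul_mem_left c (Q.pow_mem_of_mem ht' n (Nat.succ_pos _))
    · intro hyt h
      refine h (t j ^ n) (hmem j) ?_
      rw [Scheme.basicOpen_pow (X := Y) (f := t j) (Nat.succ_pos (F.sup m))]
      exact hyt
  · obtain ⟨j, hjF, hy⟩ := hcov y
    have hgen : Ideal.map (f.app (U j).1).hom (I.ideal (U j)) =
        Ideal.span {f.app (U j).1 (t j) ^ n} := by
      refine le_antisymm ?_ ?_
      · rw [Ideal.map_le_iff_le_comap, hideal]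
      · rw [Ideal.span_singleton_le_iff_mem, ← map_pow]
        exact Ideal.mem_map_of_mem _ (hmem j)
    refine ⟨U j, hy, (exists_pow f L hiso (ht j) (hLt j)).1, ?_,
      _, pow_mem (app_mem_nonZeroDivisors f L hdense (hLt j)) n, hgen⟩
    intro x hx
    rw [SetLike.mem_coe, hgen] at hx
    obtain ⟨c, rfl⟩ := Ideal.mem_span_singleton'.mp hx
    obtain ⟨a, ha⟩ := hm j c
    have hmn : m j ≤ n := (Finset.le_sup hjF).trans (Nat.le_succ _)
    refine ⟨a * t j ^ (n - m j), ?_, ?_⟩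
    · rw [SetLike.mem_coe, hideal, Ideal.mem_comap]
      refine Ideal.mem_span_singleton'.mpr ⟨c, ?_⟩
      rw [map_mul, map_pow, ha, mul_assoc, ← pow_add, Nat.add_sub_cancel' hmn]
    · rw [map_mul, map_pow, ha, mul_assoc, ← pow_add, Nat.add_sub_cancel' hmn]

end Groth.Agent.Lib.BlowFlat85.FiniteBirational
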